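import Cfsg.Agent.H103.GT.Grp
import Cfsg.Agent.H103.GT.Coord

/-!
# S5211, (Lb) for `p = 2`, `q ≥ 8`: coordinates on `Q_b` in characteristic two
-/

set_option autoImplicit false

namespace Cfsg.Agent.H10.GT

open Cfsg Cfsg.FusionSystem Cfsg.Agent.H779.G2 Cfsg.Agent.H756.PU Cfsg.Agent.H802 Cfsg.Agent.H103.GT

universe u

variable {K : Type u} [Field K]

/-- coordinates of an element of `Q_b` -/
def pa (g : Qb K) : K := (g : GU K).a
def pc (g : Qb K) : K := (g : GU K).c
def pd (g : Qb K) : K := (g : GU K).d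
def pe (g : Qb K) : K := (g : GU K).e
def pf (g : Qb K) : K := (g : GU K).f

/-- the element of `Q_b` with given coordinates -/
def mk (a c d e f : K) : Qb K := ⟨⟨a, 0, c, d, e, f⟩, rfl⟩

@[simp] theorem pa_mk (a c d e f : K) : pa (mk a c d e f) = a := rfl
@[simp] theorem pc_mk (a c d e f : K) : pc (mk a c d e f) = c := rfl
@[simp] theorem pd_mk (a c d e f : K) : pd (mk a c d e f) = d := rfl
@[simp] theorem pe_mk (a c d e f : K) : pe (mk a c d e f) = e := rfl
@[simp] theorem pf_mk (a c d e f : K) : pf (mk a c d e f) = f := rfl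

theorem qext {x y : Qb K} (ha : pa x = pa y) (hc : pc x = pc y) (hd : pd x = pd y) (he : pe x = pe y)
    (hf : pf x = pf y) : x = y := by
  apply Subtype.ext
  have hx : (x : GU K).b = 0 := x.2
  have hy : (y : GU K).b = 0 := y.2
  exact GU.ext ha (hx.trans hy.symm) hc hd he hf

@[simp] theorem pa_one : pa (1 : Qb K) = 0 := rfl
@[simp] theorem pc_one : pc (1 : Qb K) = 0 := rfl
@[simp] theorem pd_one : pd (1 : Qb K) = 0 := rfl
@[simp] theorem pe_one : pe (1 : Qb K) = 0 := rfl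
@[simp] theorem pf_one : pf (1 : Qb K) = 0 := rfl

@[simp] theorem pa_mul (x y : Qb K) : pa (x * y) = pa x + pa y := rfl

@[simp] theorem pc_mul (x y : Qb K) : pc (x * y) = pc x + pc y := by
  have hx : (x : GU K).b = 0 := x.2
  simp only [pc, Subgroup.coe_mul, GU.mul_c, hx]
  ring

theorem pa_inv (x : Qb K) : pa x⁻¹ = - pa x := rfl

section char2

variable [CharP K 2]

theorem h2' : (2 : K) = 0 := by
  have := CharP.cast_eq_zero K 2
  exact_mod_cast this

@[simp] theorem pd_mul (x y : Qb K) : pd (x * y) = pd x + pd y := by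
  have hx : (x : GU K).b = 0 := x.2
  simp only [pd, Subgroup.coe_mul, GU.mul_d, hx]
  linear_combination ((x : GU K).c * (y : GU K).a) * h2' (K := K)

@[simp] theorem pe_mul (x y : Qb K) : pe (x * y) = pe x + pe y + pd x * pa y + pc x * pa y ^ 2 := by
  have hx : (x : GU K).b = 0 := x.2
  simp only [pd, pe, pa, pc, Subgroup.coe_mul, GU.mul_e, hx]
  linear_combination ((x : GU K).d * (y : GU K).a + (x : GU K).c * (y : GU K).a ^ 2) * h2' (K := K)

@[simp] theorem pf_mul (x y : Qb K) : pf (x * y) = pf x + pf y + pd x * pc y + pc x ^ 2 * pa y := by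
  have hx : (x : GU K).b = 0 := x.2
  have hy : (y : GU K).b = 0 := y.2
  simp only [pd, pf, pa, pc, Subgroup.coe_mul, GU.mul_f, hx, hy]
  linear_combination ((x : GU K).d * (y : GU K).c + (x : GU K).c ^ 2 * (y : GU K).a
    + 3 * (x : GU K).c * (y : GU K).a * (y : GU K).c) * h2' (K := K)

theorem pa_inv2 (x : Qb K) : pa x⁻¹ = pa x := by
  have h : pa (x⁻¹ * x) = 0 := by rw [inv_mul_cancel]; rfl
  rw [pa_mul] at h
  linear_combination h - pa x * h2' (K := K)

theorem pc_inv2 (x : Qb K) : pc x⁻¹ = pc x := by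
  have h : pc (x⁻¹ * x) = 0 := by rw [inv_mul_cancel]; rfl
  rw [pc_mul] at h
  linear_combination h - pc x * h2' (K := K)

theorem pd_inv2 (x : Qb K) : pd x⁻¹ = pd x := by
  have h : pd (x⁻¹ * x) = 0 := by rw [inv_mul_cancel]; rfl
  rw [pd_mul] at h
  linear_combination h - pd x * h2' (K := K)

/-- the commutator in coordinates -/
def ze (x y : Qb K) : K := pd x * pa y + pc x * pa y ^ 2 + pd y * pa x + pc y * pa x ^ 2
def zf (x y : Qb K) : K := pd x * pc y + pc x ^ 2 * pa y + pd y * pc x + pc y ^ 2 * pa x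

theorem mul_comm_z (x y : Qb K) : x * y = mk 0 0 0 (ze x y) (zf x y) * (y * x) := by
  apply qext
  · simp only [pa_mul, pa_mk]; ring
  · simp only [pc_mul, pc_mk]; ring
  · simp only [pd_mul, pd_mk]; ring
  · simp only [pa_mul, pe_mul, pd_mk, pc_mk, pe_mk, ze]
    linear_combination (-(pd y * pa x + pc y * pa x ^ 2)) * h2' (K := K)
  · simp only [pa_mul, pc_mul, pf_mul, pd_mk, pc_mk, pf_mk, zf]
    linear_combination (-(pd y * pc x + pc y ^ 2 * pa x)) * h2' (K := K)

theorem comm_eq (x y : Qb K) : x * y * x⁻¹ * y⁻¹ = mk 0 0 0 (ze x y) (zf x y) := by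
  rw [mul_inv_eq_iff_eq_mul, mul_inv_eq_iff_eq_mul, mul_assoc]
  exact mul_comm_z x y

omit [CharP K 2] in
theorem mk_eq_iff {e f e' f' : K} : mk 0 0 0 e f = mk 0 0 0 e' f' ↔ e = e' ∧ f = f' :=
  ⟨fun h => ⟨congrArg pe h, congrArg pf h⟩, fun h => by rw [h.1, h.2]⟩

theorem commute_iff (x y : Qb K) : x * y = y * x ↔ ze x y = 0 ∧ zf x y = 0 := by
  have h1 : (1 : Qb K) = mk 0 0 0 0 0 := rfl
  constructor
  · intro h
    have h3 : x * y * x⁻¹ * y⁻¹ = 1 := by rw [h]; group
    rw [comm_eq, h1] at h3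
    exact mk_eq_iff.1 h3
  · rintro ⟨h, h'⟩
    rw [mul_comm_z, h, h', ← h1, one_mul]

/-- `d* = d + ac` -/
def ds (x : Qb K) : K := pd x + pa x * pc x

theorem sq_eq (x : Qb K) : x * x = mk 0 0 0 (ds x * pa x) (ds x * pc x) := by
  apply qext
  · simp only [pa_mul, pa_mk]
    linear_combination pa x * h2' (K := K)
  · simp only [pc_mul, pc_mk]
    linear_combination pc x * h2' (K := K)
  · simp only [pd_mul, pd_mk]
    linear_combination pd x * h2' (K := K)
  · simp only [pe_mul, pe_mk, ds]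
    linear_combination pe x * h2' (K := K)
  · simp only [pf_mul, pf_mk, ds]
    linear_combination pf x * h2' (K := K)

theorem ds_mul (x y : Qb K) : ds (x * y) = ds x + ds y + (pa x * pc y + pa y * pc x) := by
  simp only [ds, pa_mul, pc_mul, pd_mul]
  ring

/-- the center of `Q_b` -/
theorem central_iff (x : Qb K) : (∀ y : Qb K, x * y = y * x) ↔ pa x = 0 ∧ pc x = 0 ∧ pd x = 0 := by
  constructor
  · intro h
    obtain ⟨h1, h3⟩ := (commute_iff _ _).1 (h (mk 0 0 1 0 0))
    simp only [ze, zf, pa_mk, pc_mk, pd_mk] at h1 h3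
    have ha : pa x = 0 := by linear_combination h1
    have hc : pc x = 0 := by linear_combination h3
    obtain ⟨h4, -⟩ := (commute_iff _ _).1 (h (mk 1 0 0 0 0))
    simp only [ze, pa_mk, pc_mk, pd_mk] at h4
    exact ⟨ha, hc, by linear_combination h4 - hc⟩
  · rintro ⟨ha, hc, hd⟩ y
    rw [commute_iff]
    simp [ze, zf, ha, hc, hd]

end char2

/-- conjugation by `x : GU K` on `Q_b` -/
noncomputable def cj (x : GU K) : MulAut (Qb K) := MulAut.conjNormal x

theorem cj_apply (x : GU K) (y : Qb K) : ((cj x y : Qb K) : GU K) = x * (y : GU K) * x⁻¹ := MulAut.conjNormal_apply _ _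

theorem cj_mem (x : GU K) : cj x ∈ autInducedBy ⊤ (Qb K) :=
  (mem_autInducedBy_iff _ _ _).2 ⟨x, Subgroup.mem_top _, fun y => by rw [cj_apply]⟩

theorem eq_cj_of_mem {γ : MulAut (Qb K)} (h : γ ∈ autInducedBy ⊤ (Qb K)) : ∃ x : GU K, γ = cj x := by
  obtain ⟨x, -, hx⟩ := (mem_autInducedBy_iff _ _ _).1 h
  refine ⟨x, MulEquiv.ext fun y => Subtype.ext ?_⟩
  rw [hx, cj_apply]

theorem pa_cj (x : GU K) (y : Qb K) : pa (cj x y) = pa y := by
  have h : pa (cj x y) = (x * (y : GU K) * x⁻¹).a := congrArg GU.a (cj_apply x y)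
  rw [h, cj_a]; rfl

theorem pc_cj (x : GU K) (y : Qb K) : pc (cj x y) = pc y + x.b * pa y := by
  have h : pc (cj x y) = (x * (y : GU K) * x⁻¹).c := congrArg GU.c (cj_apply x y)
  have hy : (y : GU K).b = 0 := y.2
  rw [h, cj_c, hy]
  simp only [pa, pc]
  ring

end Cfsg.Agent.H10.GT
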