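import Cfsg.Agent.H10.GT.Base

/-!
# S5211, (Lb) for `p = 2`, `q ≥ 8`: `Z₃` is invariant under all automorphisms of `Q_b`
-/

set_option autoImplicit false

namespace Cfsg.Agent.H10.GT

open Cfsg Cfsg.FusionSystem Cfsg.Agent.H779.G2 Cfsg.Agent.H756.PU Cfsg.Agent.H802 Cfsg.Agent.H103.GT

universe u

variable {K : Type u} [Field K] [CharP K 2]

theorem central_map (γ : MulAut (Qb K)) {x : Qb K} (h : pa x = 0 ∧ pc x = 0 ∧ pd x = 0) :
    pa (γ x) = 0 ∧ pc (γ x) = 0 ∧ pd (γ x) = 0 := by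
  rw [← central_iff] at h ⊢
  intro y
  obtain ⟨y, rfl⟩ := γ.surjective y
  rw [← map_mul, ← map_mul, h]

theorem central_map_iff (γ : MulAut (Qb K)) {x : Qb K} :
    (pa (γ x) = 0 ∧ pc (γ x) = 0 ∧ pd (γ x) = 0) ↔ pa x = 0 ∧ pc x = 0 ∧ pd x = 0 := by
  refine ⟨fun h => ?_, central_map γ⟩
  have := central_map γ⁻¹ h
  rwa [MulAut.inv_apply_self] at this

theorem comm_map (γ : MulAut (Qb K)) (x y : Qb K) :
    γ (mk 0 0 0 (ze x y) (zf x y)) = mk 0 0 0 (ze (γ x) (γ y)) (zf (γ x) (γ y)) := by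
  rw [← comm_eq, ← comm_eq]
  simp only [map_mul, map_inv]

theorem comm_transfer (γ : MulAut (Qb K)) {x y x' y' : Qb K} :
    (ze (γ x) (γ y) = ze (γ x') (γ y') ∧ zf (γ x) (γ y) = zf (γ x') (γ y')) ↔ (ze x y = ze x' y' ∧ zf x y = zf x' y') := by
  rw [← mk_eq_iff, ← mk_eq_iff, ← comm_map, ← comm_map]
  exact γ.injective.eq_iff

theorem sq_map (γ : MulAut (Qb K)) (x : Qb K) :
    γ (mk 0 0 0 (ds x * pa x) (ds x * pc x)) = mk 0 0 0 (ds (γ x) * pa (γ x)) (ds (γ x) * pc (γ x)) := by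
  rw [← sq_eq, ← sq_eq, map_mul]

theorem no_bad {κ k : K} (hκ : κ ^ 4 ≠ κ) (hk0 : k ≠ 0) (hk1 : k ≠ 1) (γ : MulAut (Qb K))
    (h : ∀ x, pa x = 0 → pc x = 0 → pa (γ x) = 0 ∧ pd (γ x) = 0)
    (h' : ∀ x, pa (γ x) = 0 → pd (γ x) = 0 → pa x = 0 ∧ pc x = 0) : False := by
  obtain ⟨g0, hg0⟩ := γ.surjective (mk 0 1 0 0 0)
  obtain ⟨g1, hg1⟩ := γ.surjective (mk 0 k 0 0 0)
  obtain ⟨g2, hg2⟩ := γ.surjective (mk 0 (κ ^ 2) 0 0 0)
  obtain ⟨x, hx⟩ := γ.surjective (mk 1 0 0 0 0)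
  obtain ⟨y, hy⟩ := γ.surjective (mk κ 0 (κ ^ 4 + κ) 0 0)
  obtain ⟨a0, c0⟩ := h' g0 (by rw [hg0]; rfl) (by rw [hg0]; rfl)
  obtain ⟨a1, c1⟩ := h' g1 (by rw [hg1]; rfl) (by rw [hg1]; rfl)
  obtain ⟨a2, c2⟩ := h' g2 (by rw [hg2]; rfl) (by rw [hg2]; rfl)
  have hd0 : pd g0 ≠ 0 := by
    intro hd
    have := (central_map γ ⟨a0, c0, hd⟩).2.1
    rw [hg0] at this
    exact one_ne_zero this
  obtain ⟨a3, d3⟩ := h (mk 0 0 (pd g1 * pd g2 / pd g0) 0 0) rfl rfl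
  set g3 : Qb K := mk 0 0 (pd g1 * pd g2 / pd g0) 0 0 with hg3
  obtain ⟨e1, e2⟩ := (comm_transfer γ (x := g0) (y := y) (x' := g2) (y' := x)).1 (by
    rw [hg0, hg2, hx, hy]
    simp only [ze, zf, pa_mk, pc_mk, pd_mk]
    constructor
    · ring
    · linear_combination κ * h2' (K := K))
  simp only [ze, zf, a0, c0, a2, c2] at e1 e2
  obtain ⟨e3, e4⟩ := (comm_transfer γ (x := g3) (y := x) (x' := g1) (y' := y)).2 (by
    simp only [ze, zf, a1, c1, hg3, pa_mk, pc_mk, pd_mk]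
    constructor
    · field_simp
      linear_combination -(pd g1) * e1
    · field_simp
      linear_combination -(pd g1) * e2)
  rw [hx, hy, hg1] at e3 e4
  simp only [ze, zf, a3, d3, pa_mk, pc_mk, pd_mk] at e3 e4
  have e5 : (k ^ 2 + k) * (κ ^ 4 + κ) = 0 := by
    linear_combination e4 - (pc (γ g3) + k * κ ^ 2) * e3 + (k ^ 2 * κ + k * κ ^ 4 + k * κ) * h2' (K := K)
  rcases mul_eq_zero.1 e5 with h5 | h5
  · have h6 : k * (k + 1) = 0 := by linear_combination h5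
    rcases mul_eq_zero.1 h6 with h7 | h7
    · exact hk0 h7
    · exact hk1 (by linear_combination h7 - h2' (K := K))
  · exact hκ (by linear_combination h5 - κ * h2' (K := K))

/-- `Z₃` is invariant under all automorphisms of `Q_b` -/
theorem z3_inv [Finite K] {κ k : K} (hκ : κ ^ 4 ≠ κ) (hk0 : k ≠ 0) (hk1 : k ≠ 1) (γ : MulAut (Qb K)) {x : Qb K}
    (hx : pa x = 0) (hx' : pc x = 0) : pa (γ x) = 0 ∧ pc (γ x) = 0 := by
  set g : Qb K := mk 0 0 1 0 0 with hg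
  have hz3 : ∀ x : Qb K, x * g = g * x ↔ pa x = 0 ∧ pc x = 0 := by
    intro x
    rw [commute_iff]
    simp [ze, zf, hg]
  have hsq : ∀ γ : MulAut (Qb K), ds (γ g) * pa (γ g) = 0 ∧ ds (γ g) * pc (γ g) = 0 := by
    intro γ
    have h1 := sq_map γ g
    have h3 : mk 0 0 0 (ds g * pa g) (ds g * pc g) = (1 : Qb K) := by
      simp only [hg, pa_mk, pc_mk, mul_zero]
      rfl
    rw [h3, map_one] at h1
    exact ⟨(congrArg pe h1).symm, (congrArg pf h1).symm⟩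
  have hnc : ∀ γ : MulAut (Qb K), ¬ (pa (γ g) = 0 ∧ pc (γ g) = 0 ∧ pd (γ g) = 0) := by
    intro γ h
    have := ((central_map_iff γ).1 h).2.2
    rw [hg] at this
    exact one_ne_zero this
  by_cases hv : pa (γ g) = 0 ∧ pc (γ g) = 0
  · have hd : pd (γ g) ≠ 0 := fun h => hnc γ ⟨hv.1, hv.2, h⟩
    have h1 : γ x * γ g = γ g * γ x := by
      rw [← map_mul, (hz3 x).2 ⟨hx, hx'⟩, map_mul]
    rw [commute_iff] at h1
    simp only [ze, zf, hv.1, hv.2] at h1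
    constructor
    · refine (mul_eq_zero.1 ?_).resolve_left hd
      linear_combination h1.1
    · refine (mul_eq_zero.1 ?_).resolve_left hd
      linear_combination h1.2
  · exfalso
    obtain ⟨θ, hθ, hθ'⟩ : ∃ θ : MulAut (Qb K), pa (θ (γ g)) = 0 ∧ pc (θ (γ g)) ≠ 0 := by
      by_cases ha : pa (γ g) = 0
      · exact ⟨1, ha, fun h => hv ⟨ha, h⟩⟩
      · obtain ⟨ω, hω⟩ := exists_wb (K := K)
        refine ⟨ω * cj (x2 (pc (γ g) / pa (γ g))), ?_, ?_⟩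
        · show pa (ω (cj _ (γ g))) = 0
          have h1 : pa (ω (cj (x2 (pc (γ g) / pa (γ g))) (γ g))) = - pc (cj (x2 (pc (γ g) / pa (γ g))) (γ g)) := hω.a _
          rw [h1, pc_cj]
          simp only [x2]
          field_simp
          linear_combination -(pc (γ g)) * h2' (K := K)
        · show pc (ω (cj _ (γ g))) ≠ 0
          have h1 : pc (ω (cj (x2 (pc (γ g) / pa (γ g))) (γ g))) = pa (cj (x2 (pc (γ g) / pa (γ g))) (γ g)) := hω.c _
          rw [h1, pa_cj]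
          exact ha
    have hds : ds ((θ * γ) g) = 0 := (mul_eq_zero.1 (hsq (θ * γ)).2).resolve_right hθ'
    have hpd : pd ((θ * γ) g) = 0 := by
      have h1 : pd ((θ * γ) g) + pa ((θ * γ) g) * pc ((θ * γ) g) = 0 := hds
      have h3 : pa ((θ * γ) g) = 0 := hθ
      rw [h3] at h1
      linear_combination h1
    have key : ∀ x : Qb K, (pa x = 0 ∧ pc x = 0) ↔ (pa ((θ * γ) x) = 0 ∧ pd ((θ * γ) x) = 0) := by
      intro x
      rw [← hz3]
      have h1 : x * g = g * x ↔ (θ * γ) x * (θ * γ) g = (θ * γ) g * (θ * γ) x := by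
        rw [← map_mul, ← map_mul]
        exact (θ * γ).injective.eq_iff.symm
      rw [h1, commute_iff]
      have h3 : pa ((θ * γ) g) = 0 := hθ
      have h4 : pc ((θ * γ) g) ≠ 0 := hθ'
      simp only [ze, zf, h3, hpd]
      constructor
      · rintro ⟨h5, h6⟩
        have h7 : pa ((θ * γ) x) ^ 2 = 0 := by
          refine (mul_eq_zero.1 (?_ : pc ((θ * γ) g) * pa ((θ * γ) x) ^ 2 = 0)).resolve_left h4
          linear_combination h5
        have h8 : pa ((θ * γ) x) = 0 := by simpa using h7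
        refine ⟨h8, ?_⟩
        rw [h8] at h6
        refine (mul_eq_zero.1 (?_ : pc ((θ * γ) g) * pd ((θ * γ) x) = 0)).resolve_left h4
        linear_combination h6
      · rintro ⟨h5, h6⟩
        rw [h5, h6]
        constructor <;> ring
    exact no_bad hκ hk0 hk1 (θ * γ) (fun x h1 h3 => (key x).1 ⟨h1, h3⟩) (fun x h1 h3 => (key x).2 ⟨h1, h3⟩)

end Cfsg.Agent.H10.GT
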