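import Cfsg.Agent.H10.GT.Tor

/-!
# S5211, (Lb) for `p = 2`, `q ≥ 8`: the Weyl element belongs to `Γ` if the torus does
-/

set_option autoImplicit false

namespace Cfsg.Agent.H10.GT

open Cfsg Cfsg.FusionSystem Cfsg.Agent.H779.G2 Cfsg.Agent.H756.PU Cfsg.Agent.H802 Cfsg.Agent.H103.GT

universe u

/-! ### Averaging -/

section avg

variable {A : Type*} [Group A] {N C : Subgroup A} [hN : N.Normal] [hC : C.Normal]

theorem avg (hcc : ∀ x ∈ C, ∀ y ∈ C, x * y = y * x) (hsq : ∀ x ∈ C, x * x = 1) {u τ : A} (hu : u ∈ C)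
    (hcom : u * τ * u⁻¹ * τ⁻¹ ∈ N) {m : ℕ} (hm : Odd m) (hτ : τ ^ m = 1) :
    (u * τ) ^ m ∈ C ∧ (u * τ) ^ m * u⁻¹ ∈ N ∧ τ * (u * τ) ^ m = (u * τ) ^ m * τ := by
  have h1 : (u * τ) ^ m ∈ C := by
    rw [← QuotientGroup.eq_one_iff, QuotientGroup.mk_pow, QuotientGroup.mk_mul, (QuotientGroup.eq_one_iff u).2 hu,
      one_mul, ← QuotientGroup.mk_pow, hτ, QuotientGroup.mk_one]
  refine ⟨h1, ?_, ?_⟩
  · have hc : Commute (u : A ⧸ N) (τ : A ⧸ N) := by
      have h2 : ((u * τ * u⁻¹ * τ⁻¹ : A) : A ⧸ N) = 1 := (QuotientGroup.eq_one_iff _).2 hcom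
      rw [QuotientGroup.mk_mul, QuotientGroup.mk_mul, QuotientGroup.mk_mul, QuotientGroup.mk_inv,
        QuotientGroup.mk_inv] at h2
      show (u : A ⧸ N) * τ = τ * u
      rw [← mul_inv_eq_iff_eq_mul, ← mul_inv_eq_one]
      exact h2
    rw [← QuotientGroup.eq_one_iff, QuotientGroup.mk_mul, QuotientGroup.mk_pow, QuotientGroup.mk_mul, hc.mul_pow,
      ← QuotientGroup.mk_pow, ← QuotientGroup.mk_pow, hτ, QuotientGroup.mk_one, mul_one, ← QuotientGroup.mk_mul]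
    obtain ⟨k, rfl⟩ := hm
    rw [pow_succ, pow_mul, pow_two, hsq u hu, one_pow, one_mul, mul_inv_cancel, QuotientGroup.mk_one]
  · have h2 : τ * (u * τ) ^ m * τ⁻¹ = (τ * u) ^ m := by
      have : τ * u = τ * (u * τ) * τ⁻¹ := by group
      rw [this, conj_pow]
    have h3 : u⁻¹ * (u * τ) ^ m * u = (τ * u) ^ m := by
      have : τ * u = u⁻¹ * (u * τ) * u⁻¹⁻¹ := by group
      rw [this, conj_pow, inv_inv]
    have h4 : u⁻¹ * (u * τ) ^ m * u = (u * τ) ^ m := by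
      rw [mul_assoc, hcc _ h1 u hu]
      group
    have h5 : τ * (u * τ) ^ m * τ⁻¹ = (u * τ) ^ m := by rw [h2, ← h3, h4]
    rwa [mul_inv_eq_iff_eq_mul] at h5

end avg

variable {K : Type u} [Field K]

/-- inner automorphisms of `Q_b` -/
theorem inn_normal : ((MulAut.conj : Qb K →* MulAut (Qb K)).range).Normal := by
  refine ⟨?_⟩
  rintro _ ⟨x, rfl⟩ γ
  refine ⟨γ x, MulEquiv.ext fun y => ?_⟩
  simp only [MulAut.conj_apply, MulAut.mul_apply, map_mul, map_inv, MulAut.apply_inv_self]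

theorem exists_res {d : MulAut (GU K)} [Finite K] {s t : K} {τ : K ≃+* K} (h : IsTor d s t τ) :
    ∃ γ : MulAut (Qb K), IsR d γ := by
  refine ⟨mkAut (fun g : Qb K => ⟨d g, ?_⟩) ?_ ?_, fun e => rfl⟩
  · show (d g).b = 0
    have hg : (g : GU K).b = 0 := g.2
    rw [h.b, hg, map_zero, mul_zero]
  · intro x y
    exact Subtype.ext (map_mul d _ _)
  · intro x hx
    have h1 : d (x : GU K) = 1 := congrArg Subtype.val hx
    exact Subtype.ext ((map_eq_one_iff d d.injective).1 h1)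

section res

variable {d : MulAut (GU K)} {γ : MulAut (Qb K)} {s t : K} {τ : K ≃+* K}

theorem pa_res (h : IsTor d s t τ) (hr : IsR d γ) (g : Qb K) : pa (γ g) = s * τ (pa g) :=
  (congrArg GU.a (hr g)).trans (h.a g)

theorem pc_res (h : IsTor d s t τ) (hr : IsR d γ) (g : Qb K) : pc (γ g) = s * t * τ (pc g) :=
  (congrArg GU.c (hr g)).trans (h.c g)

theorem pd_res (h : IsTor d s t τ) (hr : IsR d γ) (g : Qb K) : pd (γ g) = s ^ 2 * t * τ (pd g) :=
  (congrArg GU.d (hr g)).trans (h.d g)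

theorem pe_res (h : IsTor d s t τ) (hr : IsR d γ) (g : Qb K) : pe (γ g) = s ^ 3 * t * τ (pe g) :=
  (congrArg GU.e (hr g)).trans (h.e g)

theorem pf_res (h : IsTor d s t τ) (hr : IsR d γ) (g : Qb K) : pf (γ g) = s ^ 3 * t ^ 2 * τ (pf g) :=
  (congrArg GU.f (hr g)).trans (h.f g)

end res

theorem res_pow {d : MulAut (GU K)} {γ : MulAut (Qb K)} (h : IsR d γ) (n : ℕ) : IsR (d ^ n) (γ ^ n) := by
  induction n with
  | zero => intro e; simp
  | succ n ih =>
    intro e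
    rw [pow_succ, pow_succ, MulAut.mul_apply, MulAut.mul_apply, ih, h]

theorem wb_tor [CharP K 2] {d d' : MulAut (GU K)} {γ γ' ω : MulAut (Qb K)} {s t : K}
    (h : IsTor d s t (RingEquiv.refl K)) (h' : IsTor d' (s * t) t⁻¹ (RingEquiv.refl K)) (hr : IsR d γ) (hr' : IsR d' γ')
    (hω : IsWb ω) : ω * γ = γ' * ω := by
  have ht := h.ne2
  have ha : ∀ g, pa (ω g) = pc g := fun g => (hω.a g).trans (by
    show - pc g = pc g
    linear_combination -(pc g) * h2' (K := K))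
  have hc : ∀ g, pc (ω g) = pa g := hω.c
  have hd : ∀ g, pd (ω g) = pd g := fun g => (hω.d g).trans (by
    show pd g - 2 * pa g * pc g = pd g
    linear_combination -(pa g * pc g) * h2' (K := K))
  have he : ∀ g, pe (ω g) = pf g + pa g * pc g ^ 2 := fun g => (hω.e g).trans (by
    show - pf g + 3 * pa g * pc g ^ 2 = pf g + pa g * pc g ^ 2
    linear_combination (-(pf g) + pa g * pc g ^ 2) * h2' (K := K))
  have hf : ∀ g, pf (ω g) = pe g + pa g ^ 2 * pc g := fun g => (hω.f g).trans (by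
    show pe g - 3 * pa g ^ 2 * pc g = pe g + pa g ^ 2 * pc g
    linear_combination (-2 * (pa g ^ 2 * pc g)) * h2' (K := K))
  apply MulEquiv.ext
  intro g
  rw [MulAut.mul_apply, MulAut.mul_apply]
  apply qext
  · rw [ha, pa_res h' hr', ha, pc_res h hr]
  · rw [hc, pc_res h' hr', hc, pa_res h hr]
    simp only [RingEquiv.coe_refl, id_eq]
    field_simp
  · rw [hd, pd_res h' hr', hd, pd_res h hr]
    simp only [RingEquiv.coe_refl, id_eq]
    field_simp
  · rw [he, pe_res h' hr', he, pf_res h hr, pa_res h hr, pc_res h hr]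
    simp only [RingEquiv.coe_refl, id_eq]
    field_simp
  · rw [hf, pf_res h' hr', hf, pe_res h hr, pa_res h hr, pc_res h hr]
    simp only [RingEquiv.coe_refl, id_eq]
    field_simp

theorem fix_of_comm [CharP K 2] (hZ : Z3Inv K) {u γ : MulAut (Qb K)} (hu : u ∈ Cg K) (hc : γ * u = u * γ)
    {d : MulAut (GU K)} {s t : K} (h : IsTor d s t (RingEquiv.refl K)) (hr : IsR d γ) (h1 : s ^ 3 * t ≠ 1)
    (h2 : s ^ 3 * t ^ 2 ≠ 1) {g : Qb K} (hg : γ g = g) (he : pe g = 0) (hf : pf g = 0) : u g = g := by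
  have e : γ (u g) = u g := by
    rw [← MulAut.mul_apply, hc, MulAut.mul_apply, hg]
  apply qext
  · exact (hu g).1
  · exact (hu g).2
  · exact cg_pd hZ hu g
  · have h3 := pe_res h hr (u g)
    rw [e] at h3
    simp only [RingEquiv.coe_refl, id_eq] at h3
    have h4 : (1 - s ^ 3 * t) * pe (u g) = 0 := by linear_combination h3
    rcases mul_eq_zero.1 h4 with h5 | h5
    · exact absurd (by linear_combination -h5) h1
    · rw [h5, he]
  · have h3 := pf_res h hr (u g)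
    rw [e] at h3
    simp only [RingEquiv.coe_refl, id_eq] at h3
    have h4 : (1 - s ^ 3 * t ^ 2) * pf (u g) = 0 := by linear_combination h3
    rcases mul_eq_zero.1 h4 with h5 | h5
    · exact absurd (by linear_combination -h5) h2
    · rw [h5, hf]

/-- an element of the kernel commuting with the three torus elements is trivial -/
theorem eq_one_of_comm [CharP K 2] (hZ : Z3Inv K) {u γ1 γ2 γ3 : MulAut (Qb K)} (hu : u ∈ Cg K)
    (hc1 : γ1 * u = u * γ1) (hc2 : γ2 * u = u * γ2) (hc3 : γ3 * u = u * γ3) {d1 d2 d3 : MulAut (GU K)} {t : K}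
    (ht : t ≠ 0) (ht1 : t ≠ 1)
    (h1 : IsTor d1 1 t (RingEquiv.refl K)) (h2 : IsTor d2 t⁻¹ t (RingEquiv.refl K))
    (h3 : IsTor d3 t (t ^ 2)⁻¹ (RingEquiv.refl K)) (hr1 : IsR d1 γ1) (hr2 : IsR d2 γ2) (hr3 : IsR d3 γ3) : u = 1 := by
  have ht2 : t ^ 2 ≠ 1 := by
    intro h
    have h4 : (t + 1) * (t + 1) = 0 := by linear_combination h + (t + 1) * h2' (K := K)
    have h5 : t + 1 = 0 := mul_self_eq_zero.1 h4
    exact ht1 (by linear_combination h5 - h2' (K := K))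
  have hti : t⁻¹ ≠ 1 := fun h => ht1 (inv_eq_one.1 h)
  have ea : ∀ a : K, u (mk a 0 0 0 0) = mk a 0 0 0 0 := by
    intro a
    refine fix_of_comm hZ hu hc1 h1 hr1 (by simpa using ht1) (by simpa using ht2) ?_ rfl rfl
    apply qext
    · rw [pa_res h1 hr1]; simp
    · rw [pc_res h1 hr1]; simp
    · rw [pd_res h1 hr1]; simp
    · rw [pe_res h1 hr1]; simp
    · rw [pf_res h1 hr1]; simp
  have ec : ∀ a : K, u (mk 0 a 0 0 0) = mk 0 a 0 0 0 := by
    intro a
    refine fix_of_comm hZ hu hc2 h2 hr2 ?_ ?_ ?_ rfl rfl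
    · intro h
      field_simp at h
      exact ht2 h.symm
    · intro h
      field_simp at h
      exact ht1 h.symm
    apply qext
    · rw [pa_res h2 hr2]; simp
    · rw [pc_res h2 hr2]; simp [ht]
    · rw [pd_res h2 hr2]; simp
    · rw [pe_res h2 hr2]; simp
    · rw [pf_res h2 hr2]; simp
  have ed : ∀ a : K, u (mk 0 0 a 0 0) = mk 0 0 a 0 0 := by
    intro a
    refine fix_of_comm hZ hu hc3 h3 hr3 ?_ ?_ ?_ rfl rfl
    · intro h
      field_simp at h
      exact ht1 h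
    · intro h
      field_simp at h
      exact ht1 h.symm
    apply qext
    · rw [pa_res h3 hr3]; simp
    · rw [pc_res h3 hr3]; simp
    · rw [pd_res h3 hr3]; simp [ht]
    · rw [pe_res h3 hr3]; simp
    · rw [pf_res h3 hr3]; simp
  apply MulEquiv.ext
  intro g
  have hz : pa ((mk (pa g) 0 0 0 0 * mk 0 (pc g) 0 0 0 * mk 0 0 (pd g) 0 0)⁻¹ * g) = 0 ∧
      pc ((mk (pa g) 0 0 0 0 * mk 0 (pc g) 0 0 0 * mk 0 0 (pd g) 0 0)⁻¹ * g) = 0 ∧
      pd ((mk (pa g) 0 0 0 0 * mk 0 (pc g) 0 0 0 * mk 0 0 (pd g) 0 0)⁻¹ * g) = 0 := by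
    refine ⟨?_, ?_, ?_⟩
    · rw [pa_mul, pa_inv2]
      simp only [pa_mul, pa_mk]
      linear_combination (pa g) * h2' (K := K)
    · rw [pc_mul, pc_inv2]
      simp only [pc_mul, pc_mk]
      linear_combination (pc g) * h2' (K := K)
    · rw [pd_mul, pd_inv2]
      simp only [pd_mul, pd_mk]
      linear_combination (pd g) * h2' (K := K)
  have e : g = mk (pa g) 0 0 0 0 * mk 0 (pc g) 0 0 0 * mk 0 0 (pd g) 0 0 *
      ((mk (pa g) 0 0 0 0 * mk 0 (pc g) 0 0 0 * mk 0 0 (pd g) 0 0)⁻¹ * g) := by group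
  show u g = g
  conv_lhs => rw [e]
  rw [map_mul, cg_fix hZ hu hz, map_mul, map_mul, ea, ec, ed, ← e]

variable {Γ : Subgroup (MulAut (Qb K))} {D : Subgroup (MulAut (GU K))}

theorem com_mem [CharP K 2] (hZ : Z3Inv K) (h : Par 2 (Qb K) Γ D) (hF : Full D) {u w ω : MulAut (Qb K)} (hω : IsWb ω)
    (hw : w ∈ Γ) (hu : u = w⁻¹ * ω) (huC : u ∈ Cg K) {d : MulAut (GU K)} {γ : MulAut (Qb K)} {s t : K}
    (hd : IsTor d s t (RingEquiv.refl K)) (hr : IsR d γ) [Finite K] :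
    u * γ * u⁻¹ * γ⁻¹ ∈ (MulAut.conj : Qb K →* MulAut (Qb K)).range := by
  obtain ⟨d', hd'⟩ := exists_tor (s := s * t) (t := t⁻¹) (RingEquiv.refl K) (mul_ne_zero hd.ne1 hd.ne2)
    (inv_ne_zero hd.ne2)
  obtain ⟨γ', hr'⟩ := exists_res hd'
  have e1 := wb_tor hd hd' hr hr' hω
  have hγ : γ ∈ Γ := h.D_res d (hF _ _ _ hd) _ hr
  have hγ' : γ' ∈ Γ := h.D_res d' (hF _ _ _ hd') _ hr'
  have e2 : u * γ * u⁻¹ * γ⁻¹ = w⁻¹ * γ' * w * γ⁻¹ := by
    rw [hu, mul_assoc w⁻¹ ω γ, e1]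
    group
  have h1 : u * γ * u⁻¹ * γ⁻¹ ∈ Γ := by
    rw [e2]
    exact Γ.mul_mem (Γ.mul_mem (Γ.mul_mem (Γ.inv_mem hw) hγ') hw) (Γ.inv_mem hγ)
  have hn := Cg_normal hZ
  have h3 : u * γ * u⁻¹ * γ⁻¹ ∈ Cg K := by
    have e : u * γ * u⁻¹ * γ⁻¹ = u * (γ * u⁻¹ * γ⁻¹) := by group
    rw [e]
    exact (Cg K).mul_mem huC (hn.conj_mem _ ((Cg K).inv_mem huC) γ)
  obtain ⟨y, hy⟩ := eq_cj_of_mem (ker_le hZ h.syl h1 h3)
  have hb : y.b = 0 := by
    have h4 := (h3 (mk 1 0 0 0 0)).2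
    rw [hy, pc_cj] at h4
    simpa using h4
  refine ⟨⟨y, hb⟩, MulEquiv.ext fun g => Subtype.ext ?_⟩
  rw [hy, cj_apply]
  rfl

/-- the Weyl element belongs to `Γ` -/
theorem wb_mem [CharP K 2] [Finite K] (hZ : Z3Inv K) (h : Par 2 (Qb K) Γ D) (hF : Full D) {t : K} (ht : t ≠ 0)
    (ht1 : t ≠ 1) {ω : MulAut (Qb K)} (hω : IsWb ω) : ω ∈ Γ := by
  obtain ⟨w, hw, hw'⟩ := exists_n hZ h (one_ne_zero (α := K))
  have hN := inn_normal (K := K)
  have hC := Cg_normal hZ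
  obtain ⟨u, hu⟩ : ∃ u, u = w⁻¹ * ω := ⟨_, rfl⟩
  have huC : u ∈ Cg K := by
    rw [hu]
    refine same_mem' hZ fun g => ?_
    rw [(hw' g).1, (hw' g).2, inv_one, one_mul, one_mul]
    constructor
    · have h1 : pa (ω g) = - pc g := hω.a g
      rw [h1]
      linear_combination (pc g) * h2' (K := K)
    · have h1 : pc (ω g) = pa g := hω.c g
      rw [h1]
  obtain ⟨d1, hd1⟩ := exists_tor (s := 1) (t := t) (RingEquiv.refl K) one_ne_zero ht
  obtain ⟨d2, hd2⟩ := exists_tor (s := t⁻¹) (t := t) (RingEquiv.refl K) (inv_ne_zero ht) ht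
  obtain ⟨d3, hd3⟩ := exists_tor (s := t) (t := (t ^ 2)⁻¹) (RingEquiv.refl K) ht (inv_ne_zero (pow_ne_zero 2 ht))
  obtain ⟨γ1, hr1⟩ := exists_res hd1
  obtain ⟨γ2, hr2⟩ := exists_res hd2
  obtain ⟨γ3, hr3⟩ := exists_res hd3
  -- the order of the torus elements
  have hm : Odd (Nat.card D) := Nat.coprime_two_right.1 h.D_cop
  have hpow : ∀ {d : MulAut (GU K)} {γ : MulAut (Qb K)} {s t : K}, IsTor d s t (RingEquiv.refl K) → IsR d γ →
      γ ^ Nat.card D = 1 := by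
    intro d γ s t hd hr
    have h1 : d ^ Nat.card D = 1 := by
      have := pow_card_eq_one' (x := (⟨d, hF _ _ _ hd⟩ : D))
      exact congrArg Subtype.val this
    apply MulEquiv.ext
    intro g
    apply Subtype.ext
    have := res_pow hr (Nat.card D) g
    rw [h1] at this
    exact this
  have hcc : ∀ x ∈ Cg K, ∀ y ∈ Cg K, x * y = y * x := fun x hx y hy => cg_comm hZ hx hy
  have hsq : ∀ x ∈ Cg K, x * x = 1 := fun x hx => cg_sq hZ hx
  have hcomm := fun {d : MulAut (GU K)} {γ : MulAut (Qb K)} {s t : K} (hd : IsTor d s t (RingEquiv.refl K))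
    (hr : IsR d γ) => com_mem hZ h hF hω hw hu huC hd hr
  -- commutators of elements of `u N`
  have hcomm' : ∀ {v γ : MulAut (Qb K)}, v * u⁻¹ ∈ (MulAut.conj : Qb K →* MulAut (Qb K)).range →
      u * γ * u⁻¹ * γ⁻¹ ∈ (MulAut.conj : Qb K →* MulAut (Qb K)).range →
      v * γ * v⁻¹ * γ⁻¹ ∈ (MulAut.conj : Qb K →* MulAut (Qb K)).range := by
    intro v γ h1 h3
    have e : v * γ * v⁻¹ * γ⁻¹ = v * u⁻¹ * (u * γ * u⁻¹ * γ⁻¹) * (γ * (v * u⁻¹)⁻¹ * γ⁻¹) := by group
    rw [e]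
    exact mul_mem (mul_mem h1 h3) (hN.conj_mem _ (inv_mem h1) γ)
  obtain ⟨a1, a2, a3⟩ := avg hcc hsq huC (hcomm hd1 hr1) hm (hpow hd1 hr1)
  set u1 := (u * γ1) ^ Nat.card D with hu1
  obtain ⟨b1, b2, b3⟩ := avg hcc hsq a1 (hcomm' a2 (hcomm hd2 hr2)) hm (hpow hd2 hr2)
  set u2 := (u1 * γ2) ^ Nat.card D with hu2
  have b4 : u2 * u⁻¹ ∈ (MulAut.conj : Qb K →* MulAut (Qb K)).range := by
    have e : u2 * u⁻¹ = u2 * u1⁻¹ * (u1 * u⁻¹) := by group
    rw [e]
    exact mul_mem b2 a2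
  obtain ⟨c1, c2, c3⟩ := avg hcc hsq b1 (hcomm' b4 (hcomm hd3 hr3)) hm (hpow hd3 hr3)
  set u3 := (u2 * γ3) ^ Nat.card D with hu3
  -- torus elements commute
  have htt : ∀ {d d' : MulAut (GU K)} {γ γ' : MulAut (Qb K)} {s t s' t' : K}, IsTor d s t (RingEquiv.refl K) →
      IsTor d' s' t' (RingEquiv.refl K) → IsR d γ → IsR d' γ' → Commute γ γ' := by
    intro d d' γ γ' s t s' t' hd hd' hr hr'
    show γ * γ' = γ' * γ
    apply MulEquiv.ext
    intro g
    rw [MulAut.mul_apply, MulAut.mul_apply]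
    apply qext
    · rw [pa_res hd hr, pa_res hd' hr', pa_res hd' hr', pa_res hd hr]
      simp only [RingEquiv.coe_refl, id_eq]; ring
    · rw [pc_res hd hr, pc_res hd' hr', pc_res hd' hr', pc_res hd hr]
      simp only [RingEquiv.coe_refl, id_eq]; ring
    · rw [pd_res hd hr, pd_res hd' hr', pd_res hd' hr', pd_res hd hr]
      simp only [RingEquiv.coe_refl, id_eq]; ring
    · rw [pe_res hd hr, pe_res hd' hr', pe_res hd' hr', pe_res hd hr]
      simp only [RingEquiv.coe_refl, id_eq]; ring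
    · rw [pf_res hd hr, pf_res hd' hr', pf_res hd' hr', pf_res hd hr]
      simp only [RingEquiv.coe_refl, id_eq]; ring
  have a3' : Commute γ1 u1 := a3
  have b3' : Commute γ2 u2 := b3
  have c3' : Commute γ3 u3 := c3
  have hb : Commute γ1 u2 := (a3'.mul_right (htt hd1 hd2 hr1 hr2)).pow_right _
  have hc : Commute γ1 u3 := (hb.mul_right (htt hd1 hd3 hr1 hr3)).pow_right _
  have hc' : Commute γ2 u3 := (b3'.mul_right (htt hd2 hd3 hr2 hr3)).pow_right _
  have h31 : u3 = 1 := eq_one_of_comm hZ c1 hc hc' c3 ht ht1 hd1 hd2 hd3 hr1 hr2 hr3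
  have hfin : u ∈ (MulAut.conj : Qb K →* MulAut (Qb K)).range := by
    have e : u3 * u⁻¹ = u3 * u2⁻¹ * (u2 * u⁻¹) := by group
    have h4 : u3 * u⁻¹ ∈ (MulAut.conj : Qb K →* MulAut (Qb K)).range := by
      rw [e]
      exact mul_mem c2 b4
    rw [h31, one_mul] at h4
    exact (inv_mem_iff (x := u)).1 h4
  obtain ⟨y, hy⟩ := hfin
  have h5 : u ∈ Γ := by
    apply h.indu
    rw [← hy]
    refine (mem_autInducedBy_iff _ _ _).2 ⟨y, Subgroup.mem_top _, fun g => ?_⟩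
    simp
  have e : ω = w * u := by rw [hu]; group
  rw [e]
  exact Γ.mul_mem hw h5

/-- `Γ` is the standard automizer -/
theorem eq_gen [CharP K 2] [Finite K] (hZ : Z3Inv K) (h : Par 2 (Qb K) Γ D) (hF : Full D) {t : K} (ht : t ≠ 0)
    (ht1 : t ≠ 1) : Γ = Gen IsWb D := by
  have hwb : ∀ ω : MulAut (Qb K), IsWb ω → ω ∈ Γ := fun ω hω => wb_mem hZ h hF ht ht1 hω
  apply le_antisymm
  · have key : ∀ γ ∈ Γ, (∀ g, pa g = 0 → pa (γ g) = 0) → γ ∈ Gen IsWb D := by
      intro γ hγ hf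
      obtain ⟨x, d, hd, hx⟩ := h.norm γ hγ (norm_of_fix hZ h hγ hf)
      rcases mem_TT (h.D_le hd) with ⟨s, t', τ, hT⟩ | ⟨_, _, _, _, ρ', _, hgr, _⟩
      · obtain ⟨δ, hδ⟩ := exists_res hT
        have e : γ = cj x * δ := by
          apply MulEquiv.ext
          intro g
          apply Subtype.ext
          rw [hx, MulAut.mul_apply, cj_apply, hδ]
        rw [e]
        exact mul_mem (Subgroup.subset_closure (Or.inl (Or.inl (cj_mem x))))
          (Subgroup.subset_closure (Or.inr ⟨d, hd, hδ⟩))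
      · exact (no_gr hgr).elim
    intro γ hγ
    obtain ⟨ω, hω⟩ := exists_wb (K := K)
    obtain ⟨σ, p, r, m, w, hM⟩ := exists_mat hZ γ
    by_cases hr : r = 0
    · exact key γ hγ fun g hg => by rw [hM.a, hg, hr]; simp
    · have h1 : ω⁻¹ * cj (x2 (w / r)) * γ ∈ Gen IsWb D := by
        refine key _ (Γ.mul_mem (Γ.mul_mem (Γ.inv_mem (hwb ω hω)) (h.indu (cj_mem _))) hγ) fun g hg => ?_
        have h3 : pc (ω ((ω⁻¹ * cj (x2 (w / r)) * γ) g)) = pa ((ω⁻¹ * cj (x2 (w / r)) * γ) g) := hω.c _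
        rw [← h3, MulAut.mul_apply, MulAut.mul_apply, MulAut.apply_inv_self, pc_cj, hM.a, hM.c, hg]
        simp only [x2, map_zero, zero_mul, zero_add]
        field_simp
        linear_combination (σ (pc g) * w) * h2' (K := K)
      have e : γ = (cj (x2 (w / r)))⁻¹ * ω * (ω⁻¹ * cj (x2 (w / r)) * γ) := by group
      rw [e]
      exact mul_mem (mul_mem (inv_mem (Subgroup.subset_closure (Or.inl (Or.inl (cj_mem _)))))
        (Subgroup.subset_closure (Or.inl (Or.inr hω)))) h1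
  · refine (Subgroup.closure_le _).2 ?_
    rintro γ ((hγ | hγ) | ⟨d, hd, hr⟩)
    · exact h.indu hγ
    · exact hwb γ hγ
    · exact h.D_res d hd γ hr

/-- (Lb) for `p = 2`, `q ≥ 8` -/
theorem stLb_two : ∀ {K : Type u} [Field K] {p n : ℕ}, HypG K p n → p = 2 → 8 ≤ p ^ n →
    ∀ (Γ : Subgroup (MulAut (Qb K))) (D : Subgroup (MulAut (GU K))), Par p (Qb K) Γ D →
    HasTor D (fun t => t⁻¹) (fun t => t ^ 2) ∧ (Full D → Γ = Gen IsWb D) := by
  intro K _ p n hK hp hq Γ D h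
  classical
  subst hp
  have := hK.fin
  have := hK.char
  have := Fintype.ofFinite K
  have hcard : 8 ≤ Fintype.card K := by rw [← Nat.card_eq_fintype_card, hK.card]; exact hq
  obtain ⟨κ, hκ⟩ : ∃ κ : K, κ ^ 4 ≠ κ := by
    by_contra hc
    push Not at hc
    have hP : (Polynomial.X ^ 4 - Polynomial.X : Polynomial K) ≠ 0 := FiniteField.X_pow_card_sub_X_ne_zero K (by norm_num)
    have h1 : Fintype.card K ≤ (Polynomial.X ^ 4 - Polynomial.X : Polynomial K).natDegree := by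
      rw [← Finset.card_univ]
      refine Polynomial.card_le_degree_of_subset_roots ?_
      intro x _
      rw [Polynomial.mem_roots hP]
      simp [Polynomial.IsRoot, hc x]
    rw [FiniteField.X_pow_card_sub_X_natDegree_eq K (by norm_num)] at h1
    omega
  obtain ⟨k, hk⟩ : ∃ k : K, k ∉ ({0, 1} : Finset K) := by
    by_contra hc
    push Not at hc
    have h1 : Fintype.card K ≤ ({0, 1} : Finset K).card := by
      rw [← Finset.card_univ]
      exact Finset.card_le_card fun x _ => hc x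
    have h3 : ({0, 1} : Finset K).card ≤ 2 := Finset.card_le_two
    omega
  simp only [Finset.mem_insert, Finset.mem_singleton, not_or] at hk
  have hZ : Z3Inv K := fun γ x hx hx' => z3_inv hκ hk.1 hk.2 γ hx hx'
  exact ⟨hasTor hZ h, fun hF => eq_gen hZ h hF hk.1 hk.2⟩

end Cfsg.Agent.H10.GT
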