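import Cfsg.Agent.H10.GT.Inv

/-!
# S5211, (Lb) for `p = 2`, `q ≥ 8`: the semilinear action of automorphisms of `Q_b` on `Q_b / Z₃`
-/

set_option autoImplicit false

namespace Cfsg.Agent.H10.GT

open Cfsg Cfsg.FusionSystem Cfsg.Agent.H779.G2 Cfsg.Agent.H756.PU Cfsg.Agent.H802 Cfsg.Agent.H103.GT

universe u

/-- `Z₃` is invariant under all automorphisms of `Q_b` -/
def Z3Inv (K : Type u) [Field K] : Prop :=
  ∀ (γ : MulAut (Qb K)) (x : Qb K), pa x = 0 → pc x = 0 → pa (γ x) = 0 ∧ pc (γ x) = 0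

variable {K : Type u} [Field K]

theorem v_congr (hZ : Z3Inv K) (γ : MulAut (Qb K)) {x y : Qb K} (ha : pa x = pa y) (hc : pc x = pc y) :
    pa (γ x) = pa (γ y) ∧ pc (γ x) = pc (γ y) := by
  have e : x = y * (y⁻¹ * x) := by group
  have h1 : pa (y⁻¹ * x) = 0 := by
    have := congrArg pa e
    rw [pa_mul] at this
    linear_combination -this + ha
  have h2 : pc (y⁻¹ * x) = 0 := by
    have := congrArg pc e
    rw [pc_mul] at this
    linear_combination -this + hc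
  obtain ⟨h3, h4⟩ := hZ γ _ h1 h2
  have h5 : γ x = γ y * γ (y⁻¹ * x) := by rw [← map_mul, ← e]
  rw [h5, pa_mul, pc_mul, h3, h4, add_zero, add_zero]
  exact ⟨rfl, rfl⟩

theorem v_ne (hZ : Z3Inv K) (γ : MulAut (Qb K)) {x : Qb K} (h : pa (γ x) = 0 ∧ pc (γ x) = 0) : pa x = 0 ∧ pc x = 0 := by
  have := hZ γ⁻¹ _ h.1 h.2
  rwa [MulAut.inv_apply_self] at this

/-- the action on `Z₃ / Z₂` -/
def al (γ : MulAut (Qb K)) (d : K) : K := pd (γ (mk 0 0 d 0 0))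

variable [CharP K 2]

theorem al_add (γ : MulAut (Qb K)) (d d' : K) : al γ (d + d') = al γ d + al γ d' := by
  have e : (mk 0 0 (d + d') 0 0 : Qb K) = mk 0 0 d 0 0 * mk 0 0 d' 0 0 := by
    apply qext <;> simp
  rw [al, e, map_mul, pd_mul]
  rfl

theorem al_ne (hZ : Z3Inv K) (γ : MulAut (Qb K)) {d : K} (hd : d ≠ 0) : al γ d ≠ 0 := by
  intro h
  obtain ⟨h1, h2⟩ := hZ γ (mk 0 0 d 0 0) rfl rfl
  exact hd ((central_map_iff γ).1 ⟨h1, h2, h⟩).2.2

/-- the action on `Z₂` -/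
theorem act_Z2 (hZ : Z3Inv K) (γ : MulAut (Qb K)) (d : K) (x : Qb K) :
    γ (mk 0 0 0 (d * pa x) (d * pc x)) = mk 0 0 0 (al γ d * pa (γ x)) (al γ d * pc (γ x)) := by
  have h := comm_map γ (mk 0 0 d 0 0) x
  obtain ⟨h1, h2⟩ := hZ γ (mk 0 0 d 0 0) rfl rfl
  simp only [ze, zf, h1, h2, pa_mk, pc_mk, pd_mk, mul_zero, zero_mul, add_zero, ne_eq, OfNat.ofNat_ne_zero,
    not_false_eq_true, zero_pow] at h
  exact h

theorem act_v (hZ : Z3Inv K) (γ : MulAut (Qb K)) (d : K) {x y : Qb K} (ha : pa y = d * pa x) (hc : pc y = d * pc x) :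
    al γ 1 * pa (γ y) = al γ d * pa (γ x) ∧ al γ 1 * pc (γ y) = al γ d * pc (γ x) := by
  have h1 := act_Z2 hZ γ d x
  have h2 := act_Z2 hZ γ 1 y
  rw [one_mul, one_mul, ha, hc, h1] at h2
  exact ⟨(congrArg pe h2).symm, (congrArg pf h2).symm⟩

/-- the action on `Q_b / Z₃` is semilinear -/
theorem semi [Finite K] (hZ : Z3Inv K) (γ : MulAut (Qb K)) : ∃ σ : K ≃+* K, ∀ (d : K) (x y : Qb K),
    pa y = d * pa x → pc y = d * pc x → pa (γ y) = σ d * pa (γ x) ∧ pc (γ y) = σ d * pc (γ x) := by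
  have h1 : al γ 1 ≠ 0 := al_ne hZ γ one_ne_zero
  have key : ∀ (d : K) (x y : Qb K), pa y = d * pa x → pc y = d * pc x →
      pa (γ y) = al γ d / al γ 1 * pa (γ x) ∧ pc (γ y) = al γ d / al γ 1 * pc (γ x) := by
    intro d x y ha hc
    obtain ⟨h3, h4⟩ := act_v hZ γ d ha hc
    constructor
    · field_simp
      linear_combination h3
    · field_simp
      linear_combination h4
  have hmul : ∀ d d' : K, al γ (d * d') / al γ 1 = al γ d / al γ 1 * (al γ d' / al γ 1) := by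
    intro d d'
    have e1 := key (d * d') (mk 1 0 0 0 0) (mk (d * d') 0 0 0 0) (by simp) (by simp)
    have e2 := key d (mk d' 0 0 0 0) (mk (d * d') 0 0 0 0) (by simp) (by simp)
    have e3 := key d' (mk 1 0 0 0 0) (mk d' 0 0 0 0) (by simp) (by simp)
    by_cases h5 : pa (γ (mk 1 0 0 0 0)) = 0
    · have h6 : pc (γ (mk 1 0 0 0 0)) ≠ 0 := by
        intro h6
        exact one_ne_zero (v_ne hZ γ ⟨h5, h6⟩).1
      refine mul_right_cancel₀ h6 ?_
      rw [← e1.2, e2.2, e3.2]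
      ring
    · refine mul_right_cancel₀ h5 ?_
      rw [← e1.1, e2.1, e3.1]
      ring
  let φ : K →+* K :=
    { toFun := fun d => al γ d / al γ 1
      map_one' := div_self h1
      map_mul' := hmul
      map_zero' := by
        have h3 : al γ (0 + 0) = al γ 0 + al γ 0 := al_add γ 0 0
        rw [add_zero] at h3
        have h4 : al γ 0 = 0 := by linear_combination -h3
        simp [h4]
      map_add' := fun d d' => by rw [al_add, add_div] }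
  exact ⟨RingEquiv.ofBijective φ (Finite.injective_iff_bijective.1 φ.injective), fun d x y ha hc => key d x y ha hc⟩

/-- the action on `d*` -/
theorem ds_map (hZ : Z3Inv K) (γ : MulAut (Qb K)) (x : Qb K) : ds (γ x) = al γ (ds x) := by
  by_cases hv : pa (γ x) = 0 ∧ pc (γ x) = 0
  · obtain ⟨h1, h2⟩ := v_ne hZ γ hv
    have e : x = mk 0 0 (pd x) 0 0 * mk 0 0 0 (pe x) (pf x) := by
      apply qext <;> simp [h1, h2]
    have h3 : pd (γ (mk 0 0 0 (pe x) (pf x))) = 0 := (central_map γ ⟨rfl, rfl, rfl⟩).2.2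
    have h4 : γ x = γ (mk 0 0 (pd x) 0 0) * γ (mk 0 0 0 (pe x) (pf x)) := by rw [← map_mul, ← e]
    have h5 : pd (γ x) = al γ (pd x) := by
      rw [h4, pd_mul, h3, add_zero]
      rfl
    simp [ds, hv.1, hv.2, h1, h2, h5]
  · have h1 := sq_map γ x
    rw [act_Z2 hZ γ (ds x) x] at h1
    obtain ⟨h2, h3⟩ := mk_eq_iff.1 h1
    by_cases ha : pa (γ x) = 0
    · have hc : pc (γ x) ≠ 0 := fun h => hv ⟨ha, h⟩
      exact (mul_right_cancel₀ hc h3).symm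
    · exact (mul_right_cancel₀ ha h2).symm

/-! ### The kernel of the action on `Q_b / Z₃` -/

variable (K) in
omit [CharP K 2] in
/-- the kernel of the action on `Q_b / Z₃` -/
def Cg : Subgroup (MulAut (Qb K)) where
  carrier := {γ | ∀ g, pa (γ g) = pa g ∧ pc (γ g) = pc g}
  one_mem' := fun _ => ⟨rfl, rfl⟩
  mul_mem' := by
    intro a b ha hb g
    exact ⟨(ha (b g)).1.trans (hb g).1, (ha (b g)).2.trans (hb g).2⟩
  inv_mem' := by
    intro a ha g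
    have := ha (a⁻¹ g)
    rw [MulAut.apply_inv_self] at this
    exact ⟨this.1.symm, this.2.symm⟩

omit [CharP K 2] in
theorem mem_Cg {γ : MulAut (Qb K)} : γ ∈ Cg K ↔ ∀ g, pa (γ g) = pa g ∧ pc (γ g) = pc g := Iff.rfl

omit [CharP K 2] in
theorem Cg_normal (hZ : Z3Inv K) : (Cg K).Normal := by
  refine ⟨fun n hn γ g => ?_⟩
  have h1 := hn (γ⁻¹ g)
  have h2 := v_congr hZ γ h1.1 h1.2
  rw [MulAut.apply_inv_self] at h2
  exact h2

theorem al_of_mem (hZ : Z3Inv K) {γ : MulAut (Qb K)} (hγ : γ ∈ Cg K) (d : K) : al γ d = d := by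
  have h1 : ∀ d, al γ d = al γ 1 * d := by
    intro d
    have h3 := (act_v hZ γ d (x := mk 1 0 0 0 0) (y := mk d 0 0 0 0) (by simp) (by simp)).1
    rw [(hγ _).1, (hγ _).1] at h3
    simp only [pa_mk, mul_one] at h3
    exact h3.symm
  have h2 := ds_map hZ γ (mk 1 0 0 0 0 * mk 0 1 0 0 0)
  rw [map_mul, ds_mul, ds_mul, ds_map hZ, ds_map hZ, (hγ _).1, (hγ _).1, (hγ _).2, (hγ _).2] at h2
  have h3 : ds (mk 1 0 0 0 0 : Qb K) = 0 := by simp [ds]
  have h4 : ds (mk 0 1 0 0 0 : Qb K) = 0 := by simp [ds]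
  simp only [h3, h4, pa_mk, pc_mk, add_zero, zero_add, mul_one, mul_zero] at h2
  rw [h1 0] at h2
  have h5 : al γ 1 = 1 := by linear_combination -h2
  rw [h1, h5, one_mul]

theorem cg_pd (hZ : Z3Inv K) {γ : MulAut (Qb K)} (hγ : γ ∈ Cg K) (x : Qb K) : pd (γ x) = pd x := by
  have h := ds_map hZ γ x
  rw [al_of_mem hZ hγ] at h
  simp only [ds, (hγ x).1, (hγ x).2] at h
  linear_combination h

theorem cg_fix (hZ : Z3Inv K) {γ : MulAut (Qb K)} (hγ : γ ∈ Cg K) {x : Qb K} (h : pa x = 0 ∧ pc x = 0 ∧ pd x = 0) :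
    γ x = x := by
  have e : x = mk 0 0 0 (1 * pa (mk (pe x) (pf x) 0 0 0)) (1 * pc (mk (pe x) (pf x) 0 0 0)) := by
    apply qext <;> simp [h.1, h.2.1, h.2.2]
  have h2 := act_Z2 hZ γ 1 (mk (pe x) (pf x) 0 0 0)
  rw [← e, al_of_mem hZ hγ, (hγ _).1, (hγ _).2] at h2
  exact h2.trans e.symm

theorem cg_split (hZ : Z3Inv K) {γ : MulAut (Qb K)} (hγ : γ ∈ Cg K) (x : Qb K) :
    ∃ h : Qb K, (pa h = 0 ∧ pc h = 0 ∧ pd h = 0) ∧ γ x = x * h := by
  refine ⟨x⁻¹ * γ x, ⟨?_, ?_, ?_⟩, by group⟩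
  · rw [pa_mul, (hγ x).1, ← pa_mul, inv_mul_cancel, pa_one]
  · rw [pc_mul, (hγ x).2, ← pc_mul, inv_mul_cancel, pc_one]
  · rw [pd_mul, cg_pd hZ hγ, ← pd_mul, inv_mul_cancel, pd_one]

theorem sq_central {h : Qb K} (hh : pa h = 0 ∧ pc h = 0 ∧ pd h = 0) : h * h = 1 := by
  rw [sq_eq, hh.1, hh.2.1, mul_zero]
  rfl

theorem cg_sq (hZ : Z3Inv K) {γ : MulAut (Qb K)} (hγ : γ ∈ Cg K) : γ * γ = 1 := by
  apply MulEquiv.ext
  intro x
  obtain ⟨h, hh, e⟩ := cg_split hZ hγ x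
  show γ (γ x) = x
  rw [e, map_mul, e, cg_fix hZ hγ hh, mul_assoc, sq_central hh, mul_one]

theorem cg_comm (hZ : Z3Inv K) {γ δ : MulAut (Qb K)} (hγ : γ ∈ Cg K) (hδ : δ ∈ Cg K) : γ * δ = δ * γ := by
  apply MulEquiv.ext
  intro x
  obtain ⟨h, hh, e⟩ := cg_split hZ hγ x
  obtain ⟨k, hk, e'⟩ := cg_split hZ hδ x
  show γ (δ x) = δ (γ x)
  rw [e, e', map_mul, map_mul, e, e', cg_fix hZ hγ hk, cg_fix hZ hδ hh, mul_assoc, mul_assoc,
    (central_iff h).2 hh k]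

/-- the elements of `Γ` acting trivially on `Q_b / Z₃` are in `Aut_S(Q_b)` -/
theorem ker_le {Γ : Subgroup (MulAut (Qb K))} (hZ : Z3Inv K)
    (syl : ∀ P : Subgroup (MulAut (Qb K)), P ≤ Γ → IsPGroup 2 P → ∃ g ∈ Γ, ∀ x ∈ P, g * x * g⁻¹ ∈ autInducedBy ⊤ (Qb K))
    {u : MulAut (Qb K)} (hu : u ∈ Γ) (hu' : u ∈ Cg K) : u ∈ autInducedBy ⊤ (Qb K) := by
  have hp : IsPGroup 2 (Γ ⊓ Cg K : Subgroup (MulAut (Qb K))) := by
    intro g
    refine ⟨1, Subtype.ext ?_⟩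
    rw [pow_one, pow_two, Subgroup.coe_mul, Subgroup.coe_one]
    exact cg_sq hZ g.2.2
  obtain ⟨g, hg, h⟩ := syl _ inf_le_left hp
  have hn := Cg_normal hZ
  have h1 : g⁻¹ * u * g ∈ (Γ ⊓ Cg K : Subgroup (MulAut (Qb K))) := by
    refine ⟨Γ.mul_mem (Γ.mul_mem (Γ.inv_mem hg) hu) hg, ?_⟩
    have := hn.conj_mem u hu' g⁻¹
    rwa [inv_inv] at this
  have h2 := h _ h1
  have e : g * (g⁻¹ * u * g) * g⁻¹ = u := by group
  rwa [e] at h2

end Cfsg.Agent.H10.GT
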