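import Cfsg.Agent.H10.GT.Semi
import Cfsg.Agent.H103.GT.Asm

/-!
# S5211, (Lb) for `p = 2`, `q ≥ 8`: the subgroup `SL₂(q)` and its torus
-/

set_option autoImplicit false

namespace Cfsg.Agent.H10.GT

open Cfsg Cfsg.FusionSystem Cfsg.Agent.H779.G2 Cfsg.Agent.H756.PU Cfsg.Agent.H802 Cfsg.Agent.H103.GT

universe u

variable {K : Type u} [Field K]

/-- the matrix of `γ` on `Q_b / Z₃` -/
structure Mat (γ : MulAut (Qb K)) (σ : K ≃+* K) (p r m w : K) : Prop where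
  det : p * w - r * m ≠ 0
  a : ∀ g, pa (γ g) = σ (pa g) * p + σ (pc g) * r
  c : ∀ g, pc (γ g) = σ (pa g) * m + σ (pc g) * w

theorem exists_mat [CharP K 2] [Finite K] (hZ : Z3Inv K) (γ : MulAut (Qb K)) :
    ∃ (σ : K ≃+* K) (p r m w : K), Mat γ σ p r m w := by
  obtain ⟨σ, hσ⟩ := semi hZ γ
  have hv : ∀ g, pa (γ g) = σ (pa g) * pa (γ (mk 1 0 0 0 0)) + σ (pc g) * pa (γ (mk 0 1 0 0 0)) ∧
      pc (γ g) = σ (pa g) * pc (γ (mk 1 0 0 0 0)) + σ (pc g) * pc (γ (mk 0 1 0 0 0)) := by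
    intro g
    obtain ⟨h1, h2⟩ := v_congr hZ γ (x := g) (y := mk (pa g) 0 0 0 0 * mk 0 (pc g) 0 0 0) (by simp) (by simp)
    obtain ⟨h3, h4⟩ := hσ (pa g) (mk 1 0 0 0 0) (mk (pa g) 0 0 0 0) (by simp) (by simp)
    obtain ⟨h5, h6⟩ := hσ (pc g) (mk 0 1 0 0 0) (mk 0 (pc g) 0 0 0) (by simp) (by simp)
    rw [h1, h2, map_mul, pa_mul, pc_mul, h3, h4, h5, h6]
    exact ⟨rfl, rfl⟩
  refine ⟨σ, _, _, _, _, ?_, fun g => (hv g).1, fun g => (hv g).2⟩
  set p := pa (γ (mk 1 0 0 0 0)) with hp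
  set r := pa (γ (mk 0 1 0 0 0)) with hr
  set m := pc (γ (mk 1 0 0 0 0)) with hm
  set w := pc (γ (mk 0 1 0 0 0)) with hw
  intro hdet
  have key : ∀ a c : K, a * p + c * r = 0 → a * m + c * w = 0 → a = 0 ∧ c = 0 := by
    intro a c h1 h2
    have h3 := v_ne hZ γ (x := mk (σ.symm a) (σ.symm c) 0 0 0) ⟨by rw [(hv _).1]; simpa using h1, by
      rw [(hv _).2]; simpa using h2⟩
    simp only [pa_mk, pc_mk, EmbeddingLike.map_eq_zero_iff] at h3
    exact h3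
  obtain ⟨hr0, hp0⟩ := key r (-p) (by ring) (by linear_combination -hdet)
  obtain ⟨hw0, hm0⟩ := key w (-m) (by linear_combination hdet) (by ring)
  obtain ⟨h1, -⟩ := key 1 0 (by linear_combination -hp0) (by linear_combination -hm0)
  exact one_ne_zero h1

theorem same_mem {γ δ : MulAut (Qb K)} (h : ∀ g, pa (γ g) = pa (δ g) ∧ pc (γ g) = pc (δ g)) : γ * δ⁻¹ ∈ Cg K := by
  intro g
  have := h (δ⁻¹ g)
  rw [MulAut.apply_inv_self] at this
  exact this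

theorem same_mem' (hZ : Z3Inv K) {γ δ : MulAut (Qb K)} (h : ∀ g, pa (γ g) = pa (δ g) ∧ pc (γ g) = pc (δ g)) :
    γ⁻¹ * δ ∈ Cg K := by
  intro g
  have h1 := h g
  have h2 := v_congr hZ γ⁻¹ h1.1.symm h1.2.symm
  rw [MulAut.inv_apply_self] at h2
  exact h2

variable {Γ : Subgroup (MulAut (Qb K))} {D : Subgroup (MulAut (GU K))}

theorem norm_of_fix [CharP K 2] [Finite K] (hZ : Z3Inv K) (h : Par 2 (Qb K) Γ D) {γ : MulAut (Qb K)} (hγ : γ ∈ Γ)
    (hf : ∀ g, pa g = 0 → pa (γ g) = 0) : NormAut ⊤ γ := by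
  intro x hx
  obtain ⟨y, rfl⟩ := eq_cj_of_mem hx
  obtain ⟨σ, p, r, m, w, hM⟩ := exists_mat hZ γ
  have hr : r = 0 := by
    have h1 := hM.a (mk 0 1 0 0 0)
    rw [hf _ rfl] at h1
    simp only [pa_mk, pc_mk, map_zero, map_one, zero_mul, one_mul, zero_add] at h1
    exact h1.symm
  have hp : p ≠ 0 := by
    intro hp
    exact hM.det (by rw [hr, hp]; ring)
  have h1 : γ * cj y * (cj (x2 (σ y.b * w / p)) * γ)⁻¹ ∈ Cg K := by
    apply same_mem
    intro g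
    rw [MulAut.mul_apply, MulAut.mul_apply, hM.a, hM.c, pa_cj, pa_cj, pc_cj, pc_cj, hM.a, hM.c, hr]
    constructor
    · ring
    · rw [map_add, map_mul]
      simp only [x2]
      field_simp
      ring
  have h2 : γ * cj y * (cj (x2 (σ y.b * w / p)) * γ)⁻¹ ∈ Γ :=
    Γ.mul_mem (Γ.mul_mem hγ (h.indu hx)) (Γ.inv_mem (Γ.mul_mem (h.indu (cj_mem _)) hγ))
  have h3 := ker_le hZ h.syl h2 h1
  have e : γ * cj y * γ⁻¹ = γ * cj y * (cj (x2 (σ y.b * w / p)) * γ)⁻¹ * cj (x2 (σ y.b * w / p)) := by group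
  rw [e]
  exact mul_mem h3 (cj_mem _)

theorem exists_Y [CharP K 2] [Finite K] (hZ : Z3Inv K) (h : Par 2 (Qb K) Γ D) (y : K) :
    ∃ ρ ∈ Γ, ∀ g, pa (ρ g) = pa g + y * pc g ∧ pc (ρ g) = pc g := by
  obtain ⟨γ0, hγ0, hn⟩ : ∃ γ ∈ Γ, ¬ NormAut ⊤ γ := by
    by_contra hc
    push Not at hc
    exact h.nn hc
  obtain ⟨σ, p, r, m, w, hM⟩ := exists_mat hZ γ0
  have hr : r ≠ 0 := by
    intro hr
    refine hn (norm_of_fix hZ h hγ0 fun g hg => ?_)
    rw [hM.a, hg, hr]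
    simp
  set γ1 := cj (x2 (w / r)) * γ0 with hγ1
  have hmem : γ1 ∈ Γ := Γ.mul_mem (h.indu (cj_mem _)) hγ0
  have ha : ∀ g, pa (γ1 g) = σ (pa g) * p + σ (pc g) * r := by
    intro g
    rw [hγ1, MulAut.mul_apply, pa_cj, hM.a]
  have hc : ∀ g, pc (γ1 g) = σ (pa g) * (m + w / r * p) := by
    intro g
    rw [hγ1, MulAut.mul_apply, pc_cj, hM.a, hM.c]
    simp only [x2]
    field_simp
    linear_combination (σ (pc g) * w * r) * h2' (K := K)
  have hm : m + w / r * p ≠ 0 := by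
    intro h0
    apply hM.det
    have h1 : m = - (w / r * p) := by linear_combination h0
    rw [h1]
    field_simp
    linear_combination (p * w) * h2' (K := K)
  refine ⟨γ1 * cj (x2 (σ.symm (y * (m + w / r * p) / r))) * γ1⁻¹,
    Γ.mul_mem (Γ.mul_mem hmem (h.indu (cj_mem _))) (Γ.inv_mem hmem), fun g => ?_⟩
  obtain ⟨g, rfl⟩ := γ1.surjective g
  rw [MulAut.mul_apply, MulAut.inv_apply_self, MulAut.mul_apply, ha, hc, hc, ha, pa_cj, pc_cj]
  refine ⟨?_, rfl⟩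
  simp only [x2, map_add, map_mul, RingEquiv.apply_symm_apply]
  rw [div_mul_eq_mul_div]
  field_simp
  ring

/-- the element `n(t)` of `SL₂(q)` -/
theorem exists_n [CharP K 2] [Finite K] (hZ : Z3Inv K) (h : Par 2 (Qb K) Γ D) {t : K} (ht : t ≠ 0) :
    ∃ ρ ∈ Γ, ∀ g, pa (ρ g) = t⁻¹ * pc g ∧ pc (ρ g) = t * pa g := by
  obtain ⟨η, hη, hη'⟩ := exists_Y hZ h t⁻¹
  refine ⟨cj (x2 t) * η * cj (x2 t), Γ.mul_mem (Γ.mul_mem (h.indu (cj_mem _)) hη) (h.indu (cj_mem _)), fun g => ?_⟩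
  rw [MulAut.mul_apply, MulAut.mul_apply, pa_cj, pc_cj, (hη' _).1, (hη' _).2, pa_cj, pc_cj]
  simp only [x2]
  constructor
  · field_simp
    linear_combination (t * pa g) * h2' (K := K)
  · field_simp
    linear_combination (pc g + t * pa g) * h2' (K := K)

theorem exists_diag [CharP K 2] [Finite K] (hZ : Z3Inv K) (h : Par 2 (Qb K) Γ D) {t : K} (ht : t ≠ 0) :
    ∃ ρ ∈ Γ, ∀ g, pa (ρ g) = t⁻¹ * pa g ∧ pc (ρ g) = t * pc g := by
  obtain ⟨η, hη, hη'⟩ := exists_n hZ h ht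
  obtain ⟨ζ, hζ, hζ'⟩ := exists_n hZ h (one_ne_zero (α := K))
  refine ⟨η * ζ, Γ.mul_mem hη hζ, fun g => ?_⟩
  rw [MulAut.mul_apply, (hη' _).1, (hη' _).2, (hζ' _).1, (hζ' _).2]
  simp

theorem no_gr [CharP K 2] {ρ : MulAut (GU K)} (h : IsGr ρ) : False := by
  have h3 := h.three
  have h1 : (1 : K) = 0 := by linear_combination h3 - h2' (K := K)
  exact one_ne_zero h1

theorem hasTor [CharP K 2] [Finite K] (hZ : Z3Inv K) (h : Par 2 (Qb K) Γ D) :
    HasTor D (fun t => t⁻¹) (fun t => t ^ 2) := by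
  intro t ht α hα
  obtain ⟨ρ, hρ, hρ'⟩ := exists_diag hZ h ht
  have hN : NormAut ⊤ ρ := norm_of_fix hZ h hρ fun g hg => by rw [(hρ' g).1, hg, mul_zero]
  obtain ⟨x, d, hd, hx⟩ := h.norm ρ hρ hN
  rcases mem_TT (h.D_le hd) with ⟨s, t', τ, hT⟩ | ⟨_, _, _, _, ρ', _, hgr, _⟩
  · have h1 : ∀ g : Qb K, t⁻¹ * pa g = s * τ (pa g) := by
      intro g
      rw [← (hρ' g).1]
      have := congrArg GU.a (hx g)
      rw [cj_a, hT.a] at this
      exact this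
    have hs : s = t⁻¹ := by
      have := h1 (mk 1 0 0 0 0)
      simp only [pa_mk, map_one, mul_one] at this
      exact this.symm
    have hτ : τ = RingEquiv.refl K := by
      apply RingEquiv.ext
      intro a
      have h2 := h1 (mk a 0 0 0 0)
      rw [hs] at h2
      simp only [pa_mk] at h2
      exact (mul_left_cancel₀ (inv_ne_zero ht) h2).symm
    have ht' : t' = t ^ 2 := by
      have h2 := congrArg GU.c (hx (mk 0 1 0 0 0))
      have h3 := (hρ' (mk 0 1 0 0 0)).2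
      rw [cj_c, hT.a, hT.c, hT.b] at h2
      have h4 : pc (ρ (mk 0 1 0 0 0)) = ((ρ (mk 0 1 0 0 0) : Qb K) : GU K).c := rfl
      rw [h4, h2] at h3
      simp only [mk, pc, hτ, hs, RingEquiv.coe_refl, id_eq, mul_zero, add_zero, mul_one] at h3
      field_simp at h3
      linear_combination h3
    have e : α = d := by
      refine tor_unique hα ?_
      rw [hs, hτ, ht'] at hT
      exact hT
    rw [e]
    exact hd
  · exact (no_gr hgr).elim

end Cfsg.Agent.H10.GT
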